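import Groth.Agent.MultTori.K441.Defs
import Mathlib.Analysis.Polynomial.MahlerMeasure
import Mathlib.Algebra.MvPolynomial.Equiv
import Mathlib.Data.Finsupp.Interval

/-!
# Gelfond's inequality in several variables

`nm P` is the sum of the absolute values of the coefficients.  For complex polynomials `P`, `Q` in `r` variables with
total degrees `a`, `b`: `nm P * nm Q ≤ (6 * 4 ^ r) ^ (a + b) * nm (P * Q)`.  The proof restricts to a complex line and
uses the Mahler measure in one variable.
-/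

set_option autoImplicit false

open Polynomial Real

namespace Groth.Agent.MultTori.K872

section One

open Filter MeasureTheory Set in
/-- The Mahler measure is at most the supremum on the unit circle. -/
theorem mahlerMeasure_le_of_forall (p : ℂ[X]) (B : ℝ) (hB : ∀ z : ℂ, ‖z‖ = 1 → ‖p.eval z‖ ≤ B) :
    p.mahlerMeasure ≤ B := by
  by_cases hp : p = 0
  · have := (norm_nonneg _).trans (hB 1 (by simp))
    simpa [hp] using this
  have hcirc : ∀ x : ℝ, ‖circleMap 0 1 x‖ = 1 := by intro x; simp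
  have hB0 : 0 < B := by
    have h0 : 0 ≤ B := (norm_nonneg _).trans (hB 1 (by simp))
    refine lt_of_le_of_ne h0 ?_
    rintro rfl
    apply hp
    have hinf : Set.Infinite {z : ℂ | ‖z‖ = 1} := by
      have h1 : {z : ℂ | ‖z‖ = 1} = Metric.sphere (0 : ℂ) 1 := by ext z; simp
      rw [h1]
      exact infinite_of_injective_forall_mem (f := fun n : ℕ => circleMap 0 1 (1 / (n + 1 : ℝ))) (by
        intro m n hmn
        have h2 := eq_of_circleMap_eq one_ne_zero (by
          have h3 : (0 : ℝ) < 1 / (m + 1 : ℝ) := by positivity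
          have h4 : (0 : ℝ) < 1 / (n + 1 : ℝ) := by positivity
          have h5 : 1 / (m + 1 : ℝ) ≤ 1 := by
            rw [div_le_one (by positivity)]; linarith [(Nat.cast_nonneg m : (0 : ℝ) ≤ m)]
          have h6 : 1 / (n + 1 : ℝ) ≤ 1 := by
            rw [div_le_one (by positivity)]; linarith [(Nat.cast_nonneg n : (0 : ℝ) ≤ n)]
          rw [abs_lt]
          constructor <;> linarith [Real.two_le_pi]) hmn
        have h7 : (m + 1 : ℝ) = n + 1 := by
          rw [one_div, one_div] at h2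
          exact inv_injective h2
        exact_mod_cast (add_right_cancel h7 : (m : ℝ) = n)) (fun n => by simp)
    exact Polynomial.eq_zero_of_infinite_isRoot p (hinf.mono fun z hz => by
      exact norm_le_zero_iff.1 (hB z hz))
  rw [show B = rexp (circleAverage (fun _ ↦ log B) 0 1)
    by simp [circleAverage_def, mul_assoc, exp_log hB0], mahlerMeasure_def_of_ne_zero hp,
    circleAverage_def, smul_eq_mul]
  gcongr
  apply intervalIntegral.integral_mono_ae_restrict (by positivity)
    p.intervalIntegrable_mahlerMeasure (by simp)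
  rw [EventuallyLE, eventually_iff_exists_mem]
  use {x : ℝ | eval (circleMap 0 1 x) p ≠ 0}
  constructor
  · rw [mem_ae_iff, compl_def, Measure.restrict_apply' (by simp)]
    apply (Finite.of_sdiff _ <| finite_singleton (2 * π)).measure_zero
    simp only [ne_eq, mem_ofPred_eq, Decidable.not_not, inter_sdiff_assoc, Icc_sdiff_right]
    rw [ofPred_inter_eq_sep]
    apply Finite.of_finite_image (f := circleMap 0 1) ((Multiset.finite_toSet p.roots).subset _)
      <| fun _ h _ k l ↦ injOn_circleMap_of_abs_sub_le' one_ne_zero (by linarith) h.1 k.1 l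
    simp [hp]
  · intro x hx
    have hx' : 0 < ‖eval (circleMap 0 1 x) p‖ := norm_pos_iff.2 hx
    have := hB _ (hcirc x)
    gcongr

/-- A coefficient is bounded by a value on the unit circle. -/
theorem exists_coeff_le (p : ℂ[X]) (d : ℕ) (hd : p.natDegree ≤ d) (i : ℕ) :
    ∃ t : ℂ, ‖t‖ = 1 ∧ ‖p.coeff i‖ ≤ 2 ^ d * ‖p.eval t‖ := by
  obtain ⟨t, ht, ht'⟩ := (isCompact_sphere (0 : ℂ) 1).exists_isMaxOn ⟨1, by simp⟩
    (f := fun z => ‖p.eval z‖) (by fun_prop)
  refine ⟨t, by simpa using ht, ?_⟩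
  have h1 := mahlerMeasure_le_of_forall p ‖p.eval t‖ (fun z hz => ht' (by simpa using hz))
  calc ‖p.coeff i‖ ≤ (p.natDegree).choose i * p.mahlerMeasure := norm_coeff_le_choose_mul_mahlerMeasure i p
    _ ≤ 2 ^ d * ‖p.eval t‖ := by
      have h2 : ((p.natDegree).choose i : ℝ) ≤ 2 ^ d := by
        have : (p.natDegree).choose i ≤ 2 ^ d :=
          (Nat.choose_le_two_pow _ _).trans (Nat.pow_le_pow_right (by norm_num) hd)
        exact_mod_cast this
      have h3 := p.mahlerMeasure_nonneg
      gcongr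

/-- A value in the closed unit disc is bounded by the Mahler measure. -/
theorem norm_eval_le (p : ℂ[X]) (d : ℕ) (hd : p.natDegree ≤ d) (t : ℂ) (ht : ‖t‖ ≤ 1) :
    ‖p.eval t‖ ≤ 2 ^ d * p.mahlerMeasure := by
  have h3 := p.mahlerMeasure_nonneg
  rw [eval_eq_sum_range]
  calc ‖∑ i ∈ Finset.range (p.natDegree + 1), p.coeff i * t ^ i‖
      ≤ ∑ i ∈ Finset.range (p.natDegree + 1), ((p.natDegree).choose i : ℝ) * p.mahlerMeasure := by
        refine norm_sum_le_of_le _ fun i _ => ?_
        rw [norm_mul, norm_pow]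
        calc ‖p.coeff i‖ * ‖t‖ ^ i ≤ ‖p.coeff i‖ * 1 := by
              gcongr
              exact pow_le_one₀ (norm_nonneg _) ht
          _ ≤ _ := by
              rw [mul_one]; exact norm_coeff_le_choose_mul_mahlerMeasure i p
    _ = 2 ^ p.natDegree * p.mahlerMeasure := by
        rw [← Finset.sum_mul]
        congr 1
        exact_mod_cast Nat.sum_range_choose p.natDegree
    _ ≤ _ := by gcongr; norm_num

end One

section Multi

open MvPolynomial

/-- Each coefficient is bounded by a value on the polydisc. -/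
theorem exists_coeff_le_mv (r : ℕ) : ∀ (d : ℕ) (P : MvPolynomial (Fin r) ℂ), P.totalDegree ≤ d →
    ∀ m : Fin r →₀ ℕ, ∃ z : Fin r → ℂ, (∀ i, ‖z i‖ ≤ 1) ∧
      ‖MvPolynomial.coeff m P‖ ≤ (2 ^ d) ^ r * ‖MvPolynomial.eval z P‖ := by
  induction r with
  | zero =>
    intro d P hP m
    refine ⟨fun _ => 0, fun i => i.elim0, ?_⟩
    obtain rfl : m = 0 := Subsingleton.elim _ _
    obtain ⟨c, rfl⟩ := MvPolynomial.C_surjective (Fin 0) P
    simp
  | succ r ih =>
    intro d P hP m
    have hm : m = Finsupp.cons (m 0) (Finsupp.tail m) := (Finsupp.cons_tail m).symm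
    set f := finSuccEquiv ℂ r P with hf
    have hc : MvPolynomial.coeff m P = MvPolynomial.coeff (Finsupp.tail m) (f.coeff (m 0)) := by
      rw [hf, finSuccEquiv_coeff_coeff, ← hm]
    have hdeg : (f.coeff (m 0)).totalDegree ≤ d := by
      by_cases h0 : f.coeff (m 0) = 0
      · rw [h0]; simp
      · exact (Nat.le_add_right _ _).trans ((totalDegree_coeff_finSuccEquiv_add_le P (m 0) h0).trans hP)
    obtain ⟨z, hz, hz'⟩ := ih d (f.coeff (m 0)) hdeg (Finsupp.tail m)
    have hnd : (f.map (MvPolynomial.eval z)).natDegree ≤ d := by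
      refine Polynomial.natDegree_map_le.trans ?_
      rw [hf, natDegree_finSuccEquiv]
      exact (degreeOf_le_totalDegree P 0).trans hP
    obtain ⟨t, ht, ht'⟩ := exists_coeff_le (f.map (MvPolynomial.eval z)) d hnd (m 0)
    refine ⟨Fin.cons t z, ?_, ?_⟩
    · intro i
      refine Fin.cases ?_ (fun j => ?_) i
      · simpa using ht.le
      · simpa using hz j
    · rw [hc, eval_eq_eval_mv_eval']
      rw [Polynomial.coeff_map] at ht'
      calc _ ≤ (2 ^ d) ^ r * ‖MvPolynomial.eval z (f.coeff (m 0))‖ := hz'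
        _ ≤ (2 ^ d) ^ r * (2 ^ d * ‖(f.map (MvPolynomial.eval z)).eval t‖) := by gcongr
        _ = _ := by rw [pow_succ, mul_assoc]

/-- The sum of the norms of the coefficients. -/
noncomputable def nm {A : Type*} [NormedCommRing A] {r : ℕ} (P : MvPolynomial (Fin r) A) : ℝ :=
  ∑ m ∈ P.support, ‖MvPolynomial.coeff m P‖

theorem nm_eq {A : Type*} [NormedCommRing A] {r : ℕ} (P : MvPolynomial (Fin r) A) (s : Finset (Fin r →₀ ℕ))
    (hs : P.support ⊆ s) : nm P = ∑ m ∈ s, ‖MvPolynomial.coeff m P‖ := by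
  refine Finset.sum_subset hs fun m _ hm => ?_
  rw [MvPolynomial.notMem_support_iff.1 hm, norm_zero]

theorem nm_nonneg {A : Type*} [NormedCommRing A] {r : ℕ} (P : MvPolynomial (Fin r) A) : 0 ≤ nm P :=
  Finset.sum_nonneg fun _ _ => norm_nonneg _

theorem card_support_le {A : Type*} [CommRing A] {r : ℕ} (P : MvPolynomial (Fin r) A) (d : ℕ)
    (hd : P.totalDegree ≤ d) : P.support.card ≤ (2 ^ d) ^ r := by
  have h1 : ∀ m ∈ P.support, ∀ i, m i < d + 1 := by
    intro m hm i
    have h2 := MvPolynomial.le_totalDegree hm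
    have h3 : m i ≤ m.sum fun _ e => e := by
      by_cases hi : m i = 0
      · rw [hi]; exact Nat.zero_le _
      · exact Finset.single_le_sum (f := fun j => m j) (fun _ _ => Nat.zero_le _) (Finsupp.mem_support_iff.2 hi)
    omega
  have h4 : P.support.card ≤ Fintype.card (Fin r → Fin (d + 1)) := by
    rw [← Fintype.card_coe]
    refine Fintype.card_le_of_injective (fun m i => ⟨m.1 i, h1 m.1 m.2 i⟩) ?_
    intro m n hmn
    apply Subtype.ext
    ext i
    have := congrFun hmn i
    exact congrArg Fin.val this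
  refine h4.trans ?_
  rw [Fintype.card_fun, Fintype.card_fin, Fintype.card_fin]
  exact Nat.pow_le_pow_left (Nat.succ_le_of_lt Nat.lt_two_pow_self) r

theorem exists_nm_le (r d : ℕ) (P : MvPolynomial (Fin r) ℂ) (hP : P.totalDegree ≤ d) :
    ∃ z : Fin r → ℂ, (∀ i, ‖z i‖ ≤ 1) ∧ nm P ≤ ((2 ^ d) ^ r * (2 ^ d) ^ r) * ‖MvPolynomial.eval z P‖ := by
  by_cases h0 : P.support.Nonempty
  · obtain ⟨m, hm, hm'⟩ := P.support.exists_max_image (fun m => ‖MvPolynomial.coeff m P‖) h0
    obtain ⟨z, hz, hz'⟩ := exists_coeff_le_mv r d P hP m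
    refine ⟨z, hz, ?_⟩
    calc nm P ≤ P.support.card • ‖MvPolynomial.coeff m P‖ := Finset.sum_le_card_nsmul _ _ _ hm'
      _ = P.support.card * ‖MvPolynomial.coeff m P‖ := by rw [nsmul_eq_mul]
      _ ≤ (2 ^ d) ^ r * ‖MvPolynomial.coeff m P‖ := by
          have : (P.support.card : ℝ) ≤ (2 ^ d) ^ r := by exact_mod_cast card_support_le P d hP
          gcongr
      _ ≤ (2 ^ d) ^ r * ((2 ^ d) ^ r * ‖MvPolynomial.eval z P‖) := by gcongr
      _ = _ := by rw [mul_assoc]
  · refine ⟨fun _ => 0, by simp, ?_⟩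
    rw [Finset.not_nonempty_iff_eq_empty] at h0
    have : nm P = 0 := by rw [nm, h0, Finset.sum_empty]
    rw [this]
    positivity

theorem norm_eval_le_nm (r d : ℕ) (P : MvPolynomial (Fin r) ℂ) (hP : P.totalDegree ≤ d) (v : Fin r → ℂ) (B : ℝ)
    (hB : 1 ≤ B) (hv : ∀ i, ‖v i‖ ≤ B) : ‖MvPolynomial.eval v P‖ ≤ B ^ d * nm P := by
  rw [MvPolynomial.eval_eq', nm, Finset.mul_sum]
  refine norm_sum_le_of_le _ fun m hm => ?_
  rw [norm_mul, norm_prod, mul_comm]
  have h1 : ∏ i, ‖v i ^ m i‖ ≤ B ^ d := by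
    calc ∏ i, ‖v i ^ m i‖ ≤ ∏ i, B ^ m i := by
          refine Finset.prod_le_prod (fun _ _ => norm_nonneg _) fun i _ => ?_
          rw [norm_pow]
          exact pow_le_pow_left₀ (norm_nonneg _) (hv i) _
      _ = B ^ (∑ i, m i) := by rw [Finset.prod_pow_eq_pow_sum]
      _ ≤ B ^ d := by
          refine pow_le_pow_right₀ hB ?_
          have h2 := MvPolynomial.le_totalDegree hm
          have h3 : (m.sum fun _ e => e) = ∑ i, m i := Finsupp.sum_fintype _ _ (fun _ => rfl)
          omega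
  gcongr

/-- The restriction of a polynomial to the line through `z` and `w`. -/
noncomputable def line {r : ℕ} (z w : Fin r → ℂ) : MvPolynomial (Fin r) ℂ →ₐ[ℂ] ℂ[X] :=
  MvPolynomial.aeval fun i => Polynomial.C (z i) + Polynomial.C (w i - z i) * Polynomial.X

theorem eval_line {r : ℕ} (z w : Fin r → ℂ) (P : MvPolynomial (Fin r) ℂ) (t : ℂ) :
    (line z w P).eval t = MvPolynomial.eval (fun i => z i + (w i - z i) * t) P := by
  induction P using MvPolynomial.induction_on with
  | C a => simp [line]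
  | add p q hp hq => rw [map_add, Polynomial.eval_add, hp, hq, map_add]
  | mul_X p i hp =>
    rw [map_mul, Polynomial.eval_mul, hp, map_mul]
    simp [line]

theorem natDegree_line_le {r : ℕ} (z w : Fin r → ℂ) (P : MvPolynomial (Fin r) ℂ) (d : ℕ) (hd : P.totalDegree ≤ d) :
    (line z w P).natDegree ≤ d := by
  rw [line, MvPolynomial.aeval_eq_eval₂Hom, MvPolynomial.coe_eval₂Hom, MvPolynomial.eval₂_eq']
  refine Polynomial.natDegree_sum_le_of_forall_le _ _ fun m hm => ?_
  have h1 : (∏ i, (Polynomial.C (z i) + Polynomial.C (w i - z i) * Polynomial.X) ^ m i).natDegree ≤ ∑ i, m i := by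
    refine (Polynomial.natDegree_prod_le _ _).trans (Finset.sum_le_sum fun i _ => ?_)
    refine Polynomial.natDegree_pow_le.trans ?_
    have h2 : (Polynomial.C (z i) + Polynomial.C (w i - z i) * Polynomial.X).natDegree ≤ 1 := by
      compute_degree
    calc m i * _ ≤ m i * 1 := Nat.mul_le_mul_left _ h2
      _ = m i := mul_one _
  refine Polynomial.natDegree_mul_le.trans ?_
  have h2 := MvPolynomial.le_totalDegree hm
  have h3 : (m.sum fun _ e => e) = ∑ i, m i := Finsupp.sum_fintype _ _ (fun _ => rfl)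
  have h4 : ((algebraMap ℂ ℂ[X]) (MvPolynomial.coeff m P)).natDegree = 0 := Polynomial.natDegree_C _
  omega

/-- Gelfond's inequality. -/
theorem gelfond (r a b : ℕ) (P Q : MvPolynomial (Fin r) ℂ) (hP : P.totalDegree ≤ a) (hQ : Q.totalDegree ≤ b) :
    nm P * nm Q ≤ (6 * 4 ^ r) ^ (a + b) * nm (P * Q) := by
  obtain ⟨z, hz, hz'⟩ := exists_nm_le r a P hP
  obtain ⟨w, hw, hw'⟩ := exists_nm_le r b Q hQ
  have hpq : (P * Q).totalDegree ≤ a + b := (MvPolynomial.totalDegree_mul _ _).trans (by omega)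
  have h1 : ‖MvPolynomial.eval z P‖ ≤ 2 ^ a * (line z w P).mahlerMeasure := by
    have := norm_eval_le (line z w P) a (natDegree_line_le z w P a hP) 0 (by simp)
    rwa [eval_line, show (fun i => z i + (w i - z i) * 0) = z by ext i; ring] at this
  have h2 : ‖MvPolynomial.eval w Q‖ ≤ 2 ^ b * (line z w Q).mahlerMeasure := by
    have := norm_eval_le (line z w Q) b (natDegree_line_le z w Q b hQ) 1 (by simp)
    rwa [eval_line, show (fun i => z i + (w i - z i) * 1) = w by ext i; ring] at this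
  have h3 : (line z w (P * Q)).mahlerMeasure ≤ 3 ^ (a + b) * nm (P * Q) := by
    refine mahlerMeasure_le_of_forall _ _ fun t ht => ?_
    rw [eval_line]
    refine norm_eval_le_nm r (a + b) (P * Q) hpq _ 3 (by norm_num) fun i => ?_
    calc ‖z i + (w i - z i) * t‖ ≤ ‖z i‖ + ‖(w i - z i) * t‖ := norm_add_le _ _
      _ = ‖z i‖ + ‖w i - z i‖ := by rw [norm_mul, ht, mul_one]
      _ ≤ 1 + (1 + 1) := by
          have := (norm_sub_le (w i) (z i)).trans (add_le_add (hw i) (hz i))
          exact add_le_add (hz i) this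
      _ = 3 := by norm_num
  rw [map_mul, mahlerMeasure_mul] at h3
  have hM1 := (line z w P).mahlerMeasure_nonneg
  have hM2 := (line z w Q).mahlerMeasure_nonneg
  calc nm P * nm Q
      ≤ (((2 ^ a) ^ r * (2 ^ a) ^ r) * ‖MvPolynomial.eval z P‖) *
        (((2 ^ b) ^ r * (2 ^ b) ^ r) * ‖MvPolynomial.eval w Q‖) := by
        have := nm_nonneg P
        have := nm_nonneg Q
        gcongr
    _ ≤ (((2 ^ a) ^ r * (2 ^ a) ^ r) * (2 ^ a * (line z w P).mahlerMeasure)) *
        (((2 ^ b) ^ r * (2 ^ b) ^ r) * (2 ^ b * (line z w Q).mahlerMeasure)) := by gcongr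
    _ = (((2 ^ a) ^ r * (2 ^ a) ^ r) * ((2 ^ b) ^ r * (2 ^ b) ^ r) * (2 ^ a * 2 ^ b)) *
        ((line z w P).mahlerMeasure * (line z w Q).mahlerMeasure) := by ring
    _ ≤ (((2 ^ a) ^ r * (2 ^ a) ^ r) * ((2 ^ b) ^ r * (2 ^ b) ^ r) * (2 ^ a * 2 ^ b)) *
        (3 ^ (a + b) * nm (P * Q)) := by gcongr
    _ = (6 * 4 ^ r) ^ (a + b) * nm (P * Q) := by
        have e1 : (4 : ℝ) = 2 * 2 := by norm_num
        have e2 : (6 : ℝ) = 2 * 3 := by norm_num
        rw [e1, e2, mul_pow, mul_pow, mul_pow]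
        ring

theorem nm_zero {A : Type*} [NormedCommRing A] {r : ℕ} : nm (0 : MvPolynomial (Fin r) A) = 0 := by simp [nm]

theorem nm_add {A : Type*} [NormedCommRing A] {r : ℕ} (P Q : MvPolynomial (Fin r) A) : nm (P + Q) ≤ nm P + nm Q := by
  classical
  rw [nm_eq (P + Q) (P.support ∪ Q.support) MvPolynomial.support_add, nm_eq P (P.support ∪ Q.support) Finset.subset_union_left,
    nm_eq Q (P.support ∪ Q.support) Finset.subset_union_right, ← Finset.sum_add_distrib]
  refine Finset.sum_le_sum fun m _ => ?_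
  rw [MvPolynomial.coeff_add]
  exact norm_add_le _ _

theorem nm_sum {A : Type*} [NormedCommRing A] {r : ℕ} {ι : Type*} (s : Finset ι) (P : ι → MvPolynomial (Fin r) A) :
    nm (∑ i ∈ s, P i) ≤ ∑ i ∈ s, nm (P i) := by
  classical
  induction s using Finset.induction_on with
  | empty => simp [nm_zero]
  | insert i s hi ih =>
    rw [Finset.sum_insert hi, Finset.sum_insert hi]
    exact (nm_add _ _).trans (by gcongr)

theorem nm_monomial_mul {A : Type*} [NormedCommRing A] {r : ℕ} (m : Fin r →₀ ℕ) (a : A) (Q : MvPolynomial (Fin r) A) :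
    nm (MvPolynomial.monomial m a * Q) ≤ ‖a‖ * nm Q := by
  classical
  have hs : (MvPolynomial.monomial m a * Q).support ⊆ Q.support.image (fun n => m + n) := by
    intro k hk
    rw [MvPolynomial.mem_support_iff, MvPolynomial.coeff_monomial_mul'] at hk
    by_cases hmk : m ≤ k
    · rw [if_pos hmk] at hk
      refine Finset.mem_image.2 ⟨k - m, ?_, add_tsub_cancel_of_le hmk⟩
      rw [MvPolynomial.mem_support_iff]
      intro h0
      exact hk (by rw [h0, mul_zero])
    · rw [if_neg hmk] at hk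
      exact absurd rfl hk
  rw [nm_eq _ _ hs, Finset.sum_image (fun x _ y _ h => add_left_cancel h), nm, Finset.mul_sum]
  refine Finset.sum_le_sum fun n _ => ?_
  rw [MvPolynomial.coeff_monomial_mul]
  exact norm_mul_le _ _

theorem nm_mul {A : Type*} [NormedCommRing A] {r : ℕ} (P Q : MvPolynomial (Fin r) A) : nm (P * Q) ≤ nm P * nm Q := by
  conv_lhs => rw [MvPolynomial.as_sum P, Finset.sum_mul]
  refine (nm_sum _ _).trans ?_
  rw [nm, Finset.sum_mul]
  exact Finset.sum_le_sum fun m _ => nm_monomial_mul m _ Q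

theorem nm_map {r : ℕ} (P : MvPolynomial (Fin r) ℤ) : nm (MvPolynomial.map (Int.castRingHom ℂ) P) = nm P := by
  rw [nm_eq (MvPolynomial.map (Int.castRingHom ℂ) P) P.support (MvPolynomial.support_map_subset _ _), nm]
  refine Finset.sum_congr rfl fun m _ => ?_
  rw [MvPolynomial.coeff_map, Int.coe_castRingHom, Complex.norm_intCast, Int.norm_eq_abs]

theorem gelfond_int (r a b : ℕ) (P Q : MvPolynomial (Fin r) ℤ) (hP : P.totalDegree ≤ a) (hQ : Q.totalDegree ≤ b) :
    nm P * nm Q ≤ (6 * 4 ^ r) ^ (a + b) * nm (P * Q) := by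
  have := gelfond r a b (MvPolynomial.map (Int.castRingHom ℂ) P) (MvPolynomial.map (Int.castRingHom ℂ) Q)
    (le_trans (Finset.sup_mono (MvPolynomial.support_map_subset _ _)) hP)
    (le_trans (Finset.sup_mono (MvPolynomial.support_map_subset _ _)) hQ)
  rwa [← map_mul, nm_map, nm_map, nm_map] at this

theorem one_le_nm {r : ℕ} (P : MvPolynomial (Fin r) ℤ) (hP : P ≠ 0) : 1 ≤ nm P := by
  obtain ⟨m, hm⟩ := MvPolynomial.support_nonempty.2 hP
  have h1 : (1 : ℝ) ≤ ‖MvPolynomial.coeff m P‖ := by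
    have h2 : MvPolynomial.coeff m P ≠ 0 := MvPolynomial.mem_support_iff.1 hm
    rw [Int.norm_eq_abs]
    exact_mod_cast Int.one_le_abs h2
  exact h1.trans (Finset.single_le_sum (f := fun m => ‖MvPolynomial.coeff m P‖) (fun _ _ => norm_nonneg _) hm)

theorem finite_bounded (r : ℕ) (B : ℝ) : {P : MvPolynomial (Fin r) ℤ | (P.totalDegree : ℝ) ≤ B ∧ nm P ≤ B}.Finite := by
  classical
  obtain ⟨N, hN⟩ := exists_nat_ge B
  let S : Finset (Fin r →₀ ℕ) := Finset.Icc 0 (Finsupp.equivFunOnFinite.symm fun _ => N)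
  let T : Set (S → ℤ) := Set.pi Set.univ fun _ => Set.Icc (-(N : ℤ)) N
  have hT : T.Finite := Set.Finite.pi fun _ => Set.finite_Icc _ _
  refine (hT.image (fun c : S → ℤ => ∑ m : S, MvPolynomial.monomial m.1 (c m))).subset ?_
  rintro P ⟨h1, h2⟩
  have hsupp : P.support ⊆ S := by
    intro m hm
    rw [Finset.mem_Icc]
    refine ⟨zero_le, fun i => ?_⟩
    have h3 := MvPolynomial.le_totalDegree hm
    have h4 : m i ≤ m.sum fun _ e => e := by
      by_cases hi : m i = 0
      · rw [hi]; exact Nat.zero_le _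
      · exact Finset.single_le_sum (f := fun j => m j) (fun _ _ => Nat.zero_le _) (Finsupp.mem_support_iff.2 hi)
    have h5 : P.totalDegree ≤ N := by exact_mod_cast h1.trans hN
    have h6 : m i ≤ N := h4.trans (h3.trans h5)
    simpa using h6
  refine ⟨fun m => MvPolynomial.coeff m.1 P, ?_, ?_⟩
  · intro m _
    have h3 : ‖MvPolynomial.coeff m.1 P‖ ≤ N := by
      refine le_trans ?_ (h2.trans hN)
      by_cases hm : m.1 ∈ P.support
      · exact Finset.single_le_sum (f := fun m => ‖MvPolynomial.coeff m P‖) (fun _ _ => norm_nonneg _) hm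
      · rw [MvPolynomial.notMem_support_iff.1 hm, norm_zero]; exact nm_nonneg P
    rw [Int.norm_eq_abs] at h3
    have h4 : |MvPolynomial.coeff m.1 P| ≤ (N : ℤ) := by exact_mod_cast h3
    exact abs_le.1 h4
  · change ∑ m : S, MvPolynomial.monomial m.1 (MvPolynomial.coeff m.1 P) = P
    rw [Finset.sum_coe_sort S (fun m => MvPolynomial.monomial m (MvPolynomial.coeff m P))]
    conv_rhs => rw [MvPolynomial.as_sum P]
    symm
    refine Finset.sum_subset hsupp fun m _ hm => ?_
    rw [MvPolynomial.notMem_support_iff.1 hm, MvPolynomial.monomial_zero]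

end Multi

/-- RQ-A1 (Gelfond's inequality). -/
theorem degNorm_int (r : ℕ) : Nonempty (K441.DegNorm (MvPolynomial (Fin r) ℤ)) := by
  have hC : (1 : ℝ) ≤ 6 * 4 ^ r := by
    have : (1 : ℝ) ≤ 4 ^ r := one_le_pow₀ (by norm_num)
    linarith
  exact ⟨{
    deg := MvPolynomial.totalDegree
    nm := nm
    C := 6 * 4 ^ r
    one_le := hC
    deg_mul := fun x y hx hy => MvPolynomial.totalDegree_mul_of_isDomain hx hy
    deg_add := MvPolynomial.totalDegree_add
    nm_zero := nm_zero
    one_le_nm := one_le_nm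
    nm_add := nm_add
    nm_mul := nm_mul
    nm_mul' := by
      intro x y hx hy
      rw [MvPolynomial.totalDegree_mul_of_isDomain hx hy]
      refine (gelfond_int r _ _ x y le_rfl le_rfl).trans ?_
      exact mul_le_mul_of_nonneg_right (pow_le_pow_right₀ hC (Nat.le_succ _)) (nm_nonneg (x * y))
    fin := finite_bounded r }⟩

end Groth.Agent.MultTori.K872

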